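import Mathlib
import Cfsg.Agent.Lib.Helper49.CS3.I

/-!
# CS3 (S4284), part NG, package [TWO], via a generalised form of [I]
-/

set_option autoImplicit false

namespace Cfsg.Agent.Lib.Helper49.CS3

open Cfsg.Agent.Lib.Helper81.CS3
open scoped Pointwise

universe u

/-- generalised [I]: `s` a prime with `s ∣ m`, `¬ s ^ 2 ∣ m`, all non-central `s`-elements of
type (i): impossible. -/
theorem caseI_gen (hSyl : PkgSyl.{u}) (hStr : PkgStr.{u}) (hAb : PkgAb.{u})
    (hStepA : PkgStepA.{u}) (hStepB : PkgStepB.{u}) {G : Type u} [Group G] [Finite G] (m n : ℕ)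
    (hyp : Hyp G m n) (hNG : NG G m) (s : ℕ) (hm : s.Prime) (hsm : s ∣ m) (hs2 : ¬ s ^ 2 ∣ m)
    (hI : ∀ b : G, PM m s b → ¬ TypeII m n s b) : False := by
  have : Fact s.Prime := ⟨hm⟩
  have h1m : 1 < s := hm.one_lt
  have h1mm : 1 < m := hyp.2.1
  have hcop : m.Coprime n := hyp.2.2.2.1
  have hrange := hyp.2.2.2.2
  obtain ⟨m', hm'⟩ := id hsm
  have hsm' : ¬ s ∣ m' := fun h => hs2 (by
    obtain ⟨t, rfl⟩ := h
    exact ⟨t, by rw [hm']; ring⟩)
  have hcm' : Nat.Coprime s m' := (Nat.Prime.coprime_iff_not_dvd hm).mpr hsm'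
  have hcn : Nat.Coprime s n := Nat.Coprime.coprime_dvd_left hsm hcop
  have hcases : ∀ x : G, idx x = 1 ∨ idx x = m ∨ idx x = m * n := by
    intro x
    have : idx x ∈ Set.range (fun x : G => (Subgroup.centralizer ({x} : Set G)).index) := ⟨x, rfl⟩
    rw [hrange] at this
    simpa using this
  -- the element `b`
  obtain ⟨b, hbPM, -⟩ := hSyl m n hyp s hm hsm (1 : G)
  obtain ⟨hbidx, Sb, Ab, hSb, hAbm, hAbc, hcard, ⟨j, hj⟩, hAcop⟩ := hStr m n hyp hNG s b hbPM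
  have habb : AbC b := hAb m n hyp hNG s b hbPM (hI b hbPM)
  have hGcard : Nat.card G = s ^ (j + 1) * (Nat.card Ab * (m' * n)) := by
    rw [← hcard, hj, hm']; ring
  -- Sylow subgroup containing `Sb`
  have hSbp : IsPGroup s Sb := IsPGroup.of_card hj
  obtain ⟨S, hSbS⟩ := hSbp.exists_le_sylow
  have hSord : ∀ σ ∈ S, ∃ e : ℕ, orderOf σ = s ^ e := by
    intro σ hσ
    obtain ⟨e, he⟩ := (IsPGroup.iff_orderOf.mp S.isPGroup') ⟨σ, hσ⟩
    exact ⟨e, by rw [← he, Subgroup.orderOf_mk]⟩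
  have hdvd : s ^ (j + 1) ∣ Nat.card G := ⟨_, hGcard⟩
  have hS1 : s ^ (j + 1) ∣ Nat.card S := S.pow_dvd_card_of_pow_dvd_card hdvd
  obtain ⟨g, hgS, hgSb⟩ : ∃ g ∈ S, g ∉ Sb := by
    by_contra hcon
    push Not at hcon
    have hle : (S : Subgroup G) ≤ Sb := fun y hy => hcon y hy
    have h1 : Nat.card S ≤ Nat.card Sb := Subgroup.card_le_of_le hle
    have h2 : s ^ (j + 1) ≤ Nat.card S := Nat.le_of_dvd Nat.card_pos hS1
    have h3 : s ^ j < s ^ (j + 1) := Nat.pow_lt_pow_right h1m (by omega)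
    rw [hj] at h1
    omega
  have hgord := hSord g hgS
  have hgb : ¬ Commute g b := fun hc => hgSb ((hSb g).mpr ⟨hc, hgord⟩)
  have hgnc : g ∉ Subgroup.center G := fun hc => hgb (Subgroup.mem_center_iff.mp hc b).symm
  have hgPM : PM m s g := ⟨hm, hsm, hgord, hgnc⟩
  have hgidx : idx g = m * n := (hStr m n hyp hNG s g hgPM).1
  have habg : AbC g := hAb m n hyp hNG s g hgPM (hI g hgPM)
  -- order bound for `s`-subgroups of centralizers
  have T1 : ∀ (P : Subgroup G) (y : G), IsPGroup s P → P ≤ Subgroup.centralizer ({y} : Set G) →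
      s ∣ idx y → Nat.card P ≤ s ^ j := by
    intro P y hP hPy hmy
    obtain ⟨a, ha⟩ := IsPGroup.iff_card.mp hP
    have h1 : Nat.card P ∣ Nat.card (Subgroup.centralizer ({y} : Set G)) :=
      Subgroup.card_dvd_of_le hPy
    have h2 : Nat.card (Subgroup.centralizer ({y} : Set G)) * idx y = Nat.card G :=
      Subgroup.card_mul_index _
    have h3 : s ^ a * s ∣ Nat.card G := by
      rw [← h2, ← ha]
      exact Nat.mul_dvd_mul h1 hmy
    have h4 : s ^ (a + 1) ∣ s ^ (j + 1) * (Nat.card Ab * (m' * n)) := by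
      rw [← hGcard, pow_succ]
      exact h3
    have h5 : Nat.Coprime (s ^ (a + 1)) (Nat.card Ab * (m' * n)) :=
      Nat.Coprime.pow_left _ (Nat.Coprime.mul_right hAcop.symm (Nat.Coprime.mul_right hcm' hcn))
    have h6 : s ^ (a + 1) ∣ s ^ (j + 1) := h5.dvd_of_dvd_mul_right h4
    have h7 : a + 1 ≤ j + 1 := (Nat.pow_dvd_pow_iff_le_right h1m).mp h6
    rw [ha]
    exact Nat.pow_le_pow_right (by omega) (by omega)
  have hSB : ∀ y : G, s ∣ idx y → (∀ β ∈ Sb, Commute β y) → ∀ σ ∈ S, Commute σ y → σ ∈ Sb := by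
    intro y hmy hBy σ hσS hσy
    have hP : IsPGroup s ((S : Subgroup G) ⊓ Subgroup.centralizer ({y} : Set G) : Subgroup G) :=
      S.isPGroup'.to_le inf_le_left
    have hle : Sb ≤ (S : Subgroup G) ⊓ Subgroup.centralizer ({y} : Set G) :=
      le_inf hSbS (fun β hβ => Subgroup.mem_centralizer_singleton_iff.mpr (hBy β hβ))
    have hc := T1 _ y hP inf_le_right hmy
    rw [← hj] at hc
    have heq := Subgroup.eq_of_le_of_card_ge hle hc
    rw [heq]
    exact ⟨hσS, Subgroup.mem_centralizer_singleton_iff.mpr hσy⟩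
  -- `C(b) ∩ C(g) ≤ Z(G)`
  have hHH : ∀ u : G, Commute u b → Commute u g → u ∈ Subgroup.center G := by
    intro u hub hug
    rcases hcases u with h1 | hm'' | hmn
    · exact (idx_eq_one_iff' u).mp h1
    · exfalso
      exact hgSb (hSB u (by rw [hm'']; exact hsm)
        (fun β hβ => habb β u ((hSb β).mp hβ).1 hub) g hgS hug.symm)
    · exfalso
      have e1 := cent_eq_of_abC' habb hub (hbidx.trans hmn.symm)
      have e2 := cent_eq_of_abC' habg hug (hgidx.trans hmn.symm)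
      exact hgb ((e1 g).mp ((e2 g).mpr (Commute.refl g)))
  -- the elements `x`, `x'`
  obtain ⟨x, r, k, hr, hrm, hxord, hxb, hxidx⟩ := hStepA m n hyp hNG b hbidx habb
  obtain ⟨x', r', k', hr', hr'm, hx'ord, hx'g, hx'idx⟩ := hStepA m n hyp hNG g hgidx habg
  have hconjx : ∀ c : G, Commute (c * x * c⁻¹) b :=
    fun c => hStepB m n hyp hNG b hbidx habb x c hxb hxidx
  have hconjx' : ∀ c : G, Commute (c * x' * c⁻¹) g :=
    fun c => hStepB m n hyp hNG g hgidx habg x' c hx'g hx'idx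
  have hx'nc : x' ∉ Subgroup.center G := by
    intro hc
    have := (idx_eq_one_iff' x').mpr hc
    omega
  have hrm' : Nat.Coprime r s :=
    (Nat.coprime_primes hr hm).mpr (fun h => hrm (by rw [h]; exact hsm))
  -- the key claim
  have hclaim : ∀ (x₁ x'₁ σ : G), Commute x₁ b → Commute x'₁ g → idx x₁ = m →
      (∀ c : G, Commute (c * x₁ * c⁻¹) b) → (∀ c : G, Commute (c * x'₁ * c⁻¹) g) →
      orderOf x₁ = r ^ k → x'₁ ∉ Subgroup.center G →
      σ ∈ S → Commute σ (x₁ * x'₁) → σ ∈ Subgroup.center G := by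
    intro x₁ x'₁ σ h1b h1g h1idx hc1 hc1' h1ord h1nc hσS hσw
    have hz : x₁⁻¹ * (σ * x₁ * σ⁻¹) ∈ Subgroup.center G := by
      apply hHH
      · exact (h1b.inv_left).mul_left (hc1 σ)
      · have e : x₁⁻¹ * (σ * x₁ * σ⁻¹) = x'₁ * (σ * x'₁ * σ⁻¹)⁻¹ := by
          have hw : σ * (x₁ * x'₁) * σ⁻¹ = x₁ * x'₁ := by rw [hσw.eq]; group
          have hw' : (σ * x₁ * σ⁻¹) * (σ * x'₁ * σ⁻¹) = x₁ * x'₁ := by rw [← hw]; group
          calc x₁⁻¹ * (σ * x₁ * σ⁻¹)
              = x₁⁻¹ * ((σ * x₁ * σ⁻¹) * (σ * x'₁ * σ⁻¹)) * (σ * x'₁ * σ⁻¹)⁻¹ := by group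
            _ = x₁⁻¹ * (x₁ * x'₁) * (σ * x'₁ * σ⁻¹)⁻¹ := by rw [hw']
            _ = x'₁ * (σ * x'₁ * σ⁻¹)⁻¹ := by group
        rw [e]
        exact h1g.mul_left (hc1' σ).inv_left
    obtain ⟨eσ, heσ⟩ := hSord σ hσS
    have hz1 : x₁⁻¹ * (σ * x₁ * σ⁻¹) = 1 :=
      coprime_trick' hz (by group : σ * x₁ * σ⁻¹ = x₁ * (x₁⁻¹ * (σ * x₁ * σ⁻¹))) h1ord heσ hrm'
    have hσx₁ : Commute σ x₁ := by
      have h2 : σ * x₁ * σ⁻¹ = x₁ := by
        calc σ * x₁ * σ⁻¹ = x₁ * (x₁⁻¹ * (σ * x₁ * σ⁻¹)) := by group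
          _ = x₁ := by rw [hz1, mul_one]
      show σ * x₁ = x₁ * σ
      calc σ * x₁ = (σ * x₁ * σ⁻¹) * σ := by group
        _ = x₁ * σ := by rw [h2]
    have hσB : σ ∈ Sb :=
      hSB x₁ (by rw [h1idx]; exact hsm) (fun β hβ => habb β x₁ ((hSb β).mp hβ).1 h1b) σ hσS hσx₁
    have hσb : Commute σ b := ((hSb σ).mp hσB).1
    have hσx'₁ : Commute σ x'₁ := by
      have h := hσw.eq
      rw [← mul_assoc, hσx₁.eq, mul_assoc, mul_assoc] at h
      exact mul_left_cancel h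
    by_contra hσnc
    have hσPM : PM m s σ := ⟨hm, hsm, ⟨eσ, heσ⟩, hσnc⟩
    have hσidx : idx σ = m * n := (hStr m n hyp hNG s σ hσPM).1
    have hcent := cent_eq_of_abC' habb hσb (hbidx.trans hσidx.symm)
    have h3 : Commute x'₁ b := (hcent x'₁).mp hσx'₁.symm
    exact h1nc (hHH x'₁ h3 h1g)
  -- final contradiction
  obtain ⟨bs, hbsPM, hbsw⟩ := hSyl m n hyp s hm hsm (x * x')
  obtain ⟨-, -, ⟨es, hes⟩, hbsnc⟩ := hbsPM
  have hzp : IsPGroup s (Subgroup.zpowers bs) :=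
    IsPGroup.of_card (by rw [Nat.card_zpowers, hes])
  obtain ⟨T, hT⟩ := hzp.exists_le_sylow
  obtain ⟨c, hc⟩ := MulAction.exists_smul_eq G T S
  have hσS : c * bs * c⁻¹ ∈ S := by
    have h1 : bs ∈ (T : Subgroup G) := hT (Subgroup.mem_zpowers bs)
    have h2 : (MulAut.conj c) bs ∈ MulAut.conj c • (T : Subgroup G) :=
      Subgroup.smul_mem_pointwise_smul bs (MulAut.conj c) (T : Subgroup G) h1
    rw [MulAut.conj_apply, ← Sylow.coe_subgroup_smul, hc] at h2
    exact h2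
  have hfin := hclaim (c * x * c⁻¹) (c * x' * c⁻¹) (c * bs * c⁻¹) (hconjx c) (hconjx' c)
    (by rw [idx_conj']; exact hxidx)
    (fun d => by
      have h := hconjx (d * c)
      have e : d * (c * x * c⁻¹) * d⁻¹ = d * c * x * (d * c)⁻¹ := by group
      rw [e]; exact h)
    (fun d => by
      have h := hconjx' (d * c)
      have e : d * (c * x' * c⁻¹) * d⁻¹ = d * c * x' * (d * c)⁻¹ := by group
      rw [e]; exact h)
    (by
      have := (MulAut.conj c).orderOf_eq x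
      rw [MulAut.conj_apply] at this
      rw [this, hxord])
    (fun hcen => hx'nc (by
      have := (inferInstance : (Subgroup.center G).Normal).conj_mem _ hcen c⁻¹
      have e : c⁻¹ * (c * x' * c⁻¹) * c⁻¹⁻¹ = x' := by group
      rwa [e] at this))
    hσS
    (by
      have e : c * x * c⁻¹ * (c * x' * c⁻¹) = c * (x * x') * c⁻¹ := by group
      rw [e]
      exact commute_conj' c hbsw)
  apply hbsnc
  have := (inferInstance : (Subgroup.center G).Normal).conj_mem _ hfin c⁻¹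
  have e : c⁻¹ * (c * bs * c⁻¹) * c⁻¹⁻¹ = bs := by group
  rwa [e] at this

/-- [TWO] `m` has at most one prime divisor. -/
theorem pkgTwo (hSyl : PkgSyl.{u}) (hStr : PkgStr.{u}) (hSq : PkgSq.{u}) (hAb : PkgAb.{u})
    (hStepA : PkgStepA.{u}) (hStepB : PkgStepB.{u}) : PkgTwo.{u} := by
  intro G _ _ m n hyp hNG s r hs hr hsr hsm hrm
  refine caseI_gen hSyl hStr hAb hStepA hStepB m n hyp hNG s hs hsm (hSq m n hyp hNG s hs hsm) ?_
  intro b hbPM hII
  obtain ⟨b2, hb2PM, hb2b⟩ := hSyl m n hyp r hr hrm b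
  have hidx : idx b2 = m * n := (hStr m n hyp hNG r b2 hb2PM).1
  obtain ⟨-, -, ⟨e, he⟩, -⟩ := hb2PM
  refine hII b2 hb2b ?_ hidx
  rw [he]
  exact Nat.Coprime.pow_left e ((Nat.coprime_primes hr hs).mpr (Ne.symm hsr))

end Cfsg.Agent.Lib.Helper49.CS3
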